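import Cfsg.Agent.Blocks.Blau
import Cfsg.Agent.Blocks.RegularCount
import Cfsg.Agent.Blocks.Local
import Cfsg.Agent.Blocks.Basic
import Cfsg.Agent.Prune
set_option linter.all false
prune_inst 0x7f00000000000000000000000000000000000000000000000000000000000000000000000000000000000000000000000000000000000000000000000000000000000000000000000000000000000000003fffffffffffffffffffffffffffbeffbdffffffff
open scoped Cfsg.Agent.FastGrp

/-!
# The sum of a member of the principal block over the regular elements (helper133)
-/

set_option autoImplicit false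

open Cfsg

namespace Cfsg.Agent.H133.PB

open Cfsg.Agent.Blocks.Basic Cfsg.Agent.Blocks.Local Cfsg.Agent.Blocks.Blau
open scoped ComplexConjugate

universe u

variable {G : Type u} [Group G]

theorem sum_regular_eq [Fintype G] [DecidableEq (ConjClasses G)] [Fintype (ConjClasses G)] (q : ℕ) {ψ : G → ℂ}
    (hψ : IsClassFunction G ψ) :
    ∑ k : G with ¬ q ∣ orderOf k, ψ k / ψ 1 =
      ∑ c : ConjClasses G with ¬ q ∣ orderOf (rep c), centralChar ψ (rep c) := by
  classical
  rw [← Finset.sum_fiberwise (Finset.univ.filter fun k : G => ¬ q ∣ orderOf k) (fun k => ConjClasses.mk k)]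
  rw [Finset.sum_filter]
  refine Finset.sum_congr rfl fun c _ => ?_
  have hord : ∀ k : G, ConjClasses.mk k = c → orderOf k = orderOf (rep c) := by
    intro k hk
    have h1 : ConjClasses.mk k = ConjClasses.mk (rep c) := by rw [hk, mk_rep]
    obtain ⟨x, hx⟩ := isConj_iff.1 (ConjClasses.mk_eq_mk_iff_isConj.1 h1)
    rw [← hx]
    exact ((MulAut.conj x).orderOf_eq k).symm
  by_cases h : ¬ q ∣ orderOf (rep c)
  · rw [if_pos h, ← sum_div_eq_centralChar hψ c]
    refine Finset.sum_congr ?_ fun _ _ => rfl
    ext k
    simp only [Finset.mem_filter, Finset.mem_univ, true_and]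
    constructor
    · exact fun h1 => h1.2
    · exact fun h1 => ⟨by rw [hord k h1]; exact h, h1⟩
  · rw [if_neg h]
    refine Finset.sum_eq_zero fun k hk => ?_
    simp only [Finset.mem_filter, Finset.mem_univ, true_and] at hk
    exact absurd (hord k hk.2 ▸ hk.1) h

/-- A member of the principal `q`-block has a nonzero sum over the elements of order prime to `q`. -/
theorem sum_regular_ne_zero [Fintype G] {q : ℕ} [hq : Fact q.Prime] {M : Ideal AlgInt} (hM : IsPModular q M)
    {θ : IrrCharacter G} (hθ : θ ∈ principalBlock M G) :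
    ∑ k : G with ¬ q ∣ orderOf k, (θ : G → ℂ) k ≠ 0 := by
  classical
  have hMp : M.IsPrime := isPrime_of_isPModular hM
  have := Fintype.ofFinite (ConjClasses G)
  intro h0
  have h1 := sum_regular_eq q (irr_isClassFunction θ.2)
  rw [← Finset.sum_div, h0, zero_div] at h1
  have h2 := sum_regular_eq q (irr_isClassFunction (isIrrCharacter_one (G := G)))
  have h3 : MemLocalIdeal M (∑ c : ConjClasses G with ¬ q ∣ orderOf (rep c),
      (centralChar (fun _ : G => (1 : ℂ)) (rep c) - centralChar (θ : G → ℂ) (rep c))) :=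
    memLocalIdeal_sum fun c _ => hθ (rep c)
  rw [Finset.sum_sub_distrib, ← h1, ← h2, sub_zero] at h3
  have h4 : ∑ k : G with ¬ q ∣ orderOf k, (1 : ℂ) / (1 : ℂ) =
      ((Nat.card {x : G // ¬ q ∣ orderOf x} : ℕ) : ℂ) := by
    rw [Finset.sum_const, div_one, nsmul_eq_mul, mul_one, Nat.card_eq_fintype_card,
      Fintype.card_subtype]
  rw [h4, memLocalIdeal_natCast_iff hM] at h3
  exact Cfsg.Agent.Blocks.RegularCount.not_dvd_card_regular h3

end Cfsg.Agent.H133.PB
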